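import Groth.Agent.JordanPts.Main
import Groth.Agent.ComodLib.Trig
import Groth.Agent.ComodLib.Push
import Groth.Agent.ComodLib.Orbits
import Groth.Agent.GrpSchLib.HopfGalois
import Groth.Agent.S4103

/-!
# Rational points, subgroups and Jordan parts
-/

set_option autoImplicit false

universe u

open TensorProduct WithConv

namespace Groth.Agent.MultByUnip

variable {k : Type u} [Field k] {A B C : Type u} [CommRing A] [HopfAlgebra k A] [CommRing B] [HopfAlgebra k B]
  [CommRing C] [HopfAlgebra k C]

/-- Composition of points with a morphism of Hopf algebras. -/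
noncomputable def pre (f : C →ₐc[k] A) : WithConv (A →ₐ[k] k) →* WithConv (C →ₐ[k] k) where
  toFun x := toConv (x.ofConv.comp (f : C →ₐ[k] A))
  map_one' := by
    refine WithConv.ext (AlgHom.ext fun c => ?_)
    show algebraMap k k (Coalgebra.counit (R := k) (f c)) = algebraMap k k (Coalgebra.counit (R := k) c)
    rw [CoalgHomClass.counit_comp_apply]
  map_mul' x y := WithConv.ext (AlgHom.convMul_comp_bialgHom_distrib x y f)

theorem pre_apply (f : C →ₐc[k] A) (x : WithConv (A →ₐ[k] k)) (c : C) : (pre f x).ofConv c = x.ofConv (f c) := rfl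

theorem pre_injective (f : C →ₐc[k] A) (hf : Function.Surjective f) : Function.Injective (pre f) := by
  intro x y h
  refine WithConv.ext (AlgHom.ext fun a => ?_)
  obtain ⟨c, rfl⟩ := hf a
  exact DFunLike.congr_fun (congrArg WithConv.ofConv h) c

/-- The image of a morphism of Hopf algebras is a Hopf subalgebra. -/
theorem isHopfSubalgebra_range (f : C →ₐc[k] A) : SGA3.IsHopfSubalgebra k A (f : C →ₐ[k] A).range := by
  let F : C →ₐ[k] (f : C →ₐ[k] A).range := (f : C →ₐ[k] A).rangeRestrict
  constructor
  · rintro y ⟨c, rfl⟩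
    refine ⟨TensorProduct.map F.toLinearMap F.toLinearMap (Coalgebra.comul (R := k) c), ?_⟩
    refine Eq.trans ?_ (CoalgHomClass.map_comp_comul_apply f c)
    induction Coalgebra.comul (R := k) c using TensorProduct.induction_on with
    | zero => simp
    | tmul p q => rfl
    | add p q hp hq => simp only [map_add, hp, hq]
  · rintro y ⟨c, rfl⟩
    exact ⟨_, (Groth.Agent.GrpSchLib.HopfGalois.antipode_bialgHom f c).symm⟩

/-- Rational points lift along quotient morphisms over an algebraically closed field. -/
theorem pre_surjective [IsAlgClosed k] [Algebra.FiniteType k A] (f : C →ₐc[k] A) (hf : Function.Injective f) :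
    Function.Surjective (pre f) := by
  intro x
  let R := (f : C →ₐ[k] A).range
  let e : C ≃ₐ[k] R := AlgEquiv.ofInjective (f : C →ₐ[k] A) hf
  haveI : Module.FaithfullyFlat R A := Groth.Agent.S4103.result k A R (isHopfSubalgebra_range f)
  let y : R →ₐ[k] k := x.ofConv.comp e.symm.toAlgHom
  let P : Ideal A := Ideal.map (algebraMap R A) (RingHom.ker y)
  have hP : P ≠ ⊤ := fun h => RingHom.ker_ne_top y (by
    rw [← Ideal.comap_map_eq_self_of_faithfullyFlat (B := A) (RingHom.ker y)]
    show Ideal.comap _ P = ⊤
    rw [h, Ideal.comap_top])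
  obtain ⟨M, hM, hPM⟩ := Ideal.exists_le_maximal P hP
  letI := Ideal.Quotient.field M
  haveI : IsJacobsonRing A := isJacobsonRing_of_finiteType (A := k)
  haveI : Algebra.IsIntegral k (A ⧸ M) := by
    haveI := finite_of_finite_type_of_isJacobsonRing k (A ⧸ M)
    infer_instance
  let eM := AlgEquiv.ofBijective (Algebra.ofId k (A ⧸ M))
    (IsAlgClosed.algebraMap_bijective_of_isIntegral (k := k) (K := A ⧸ M))
  refine ⟨toConv (eM.symm.toAlgHom.comp (Ideal.Quotient.mkₐ k M)), WithConv.ext (AlgHom.ext fun c => ?_)⟩
  show eM.symm (Ideal.Quotient.mk M (f c)) = x.ofConv c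
  apply eM.injective
  rw [AlgEquiv.apply_symm_apply]
  show _ = algebraMap k (A ⧸ M) (x.ofConv c)
  rw [← Ideal.Quotient.mk_algebraMap, Ideal.Quotient.eq]
  apply hPM
  have h : e c - algebraMap k R (x.ofConv c) ∈ RingHom.ker y := by
    rw [RingHom.mem_ker, map_sub, AlgHom.commutes]
    simp [y]
  exact Ideal.mem_map_of_mem (algebraMap R A) h

/-- An element of a reduced finitely generated algebra killed by all points is zero. -/
theorem eq_zero_of_forall_point [IsAlgClosed k] {T : Type u} [CommRing T] [Algebra k T] [Algebra.FiniteType k T]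
    [_root_.IsReduced T] {a : T} (h : ∀ x : T →ₐ[k] k, x a = 0) : a = 0 := by
  by_contra hne
  obtain ⟨x, hx⟩ := Groth.Agent.ComodLib.exists_point_ne_zero (k := k) (a := a) fun hn => hne hn.eq_zero
  exact hx (h x)

open Groth.Agent.JordanPts HopfRep

/-- The action of a point through a morphism. -/
theorem act_pre (f : C →ₐc[k] A) (V : Type u) [AddCommGroup V] [Module k V] [cV : HopfRep.Comod k C V]
    (x : A →ₐ[k] k) :
    letI := Groth.Agent.ComodLib.pushComod (f : C →ₗc[k] A) cV
    HopfRep.Comod.act k A V x = HopfRep.Comod.act k C V (x.comp (f : C →ₐ[k] A)) := by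
  letI := Groth.Agent.ComodLib.pushComod (f : C →ₗc[k] A) cV
  exact LinearMap.ext fun v => Groth.Agent.ComodLib.actF_comp_of_push (f : C →ₗc[k] A) rfl x.toLinearMap v

variable [PerfectField k]

theorem pre_mul_parts (g : WithConv (A →ₐ[k] k)) :
    toConv (pt g.ofConv true) * toConv (pt g.ofConv false) = g := by
  refine WithConv.ext (pt_ext fun V c hf => ?_)
  letI := c
  rw [act_mul]
  show HopfRep.Comod.act k A V (pt g.ofConv true) * HopfRep.Comod.act k A V (pt g.ofConv false) = _
  rw [act_pt, act_pt, (isJD_pick (isUnit_act g.ofConv V)).eq]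

/-- The semisimple part of a point dies in a unipotent quotient. -/
theorem pre_semisimple_part (f : C →ₐc[k] A) [Algebra.FiniteType k C] (hU : HopfRep.IsUnipotent k C) (g : A →ₐ[k] k) :
    pre f (toConv (pt g true)) = 1 := by
  refine WithConv.ext (pt_ext fun V c hf => ?_)
  letI := c
  rw [act_one]
  show HopfRep.Comod.act k C V ((pt g true).comp (f : C →ₐ[k] A)) = 1
  rw [← act_pre f V, act_pt]
  letI := Groth.Agent.ComodLib.pushComod (f : C →ₗc[k] A) c
  have hn : IsNilpotent (HopfRep.Comod.act k A V g - 1) := by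
    rw [act_pre f V]
    exact Groth.Agent.ComodLib.isNilpotent_act_sub_one hU _ V
  rw [pick_eq true (isUnit_act g V) (p := (1, HopfRep.Comod.act k A V g))
    ⟨Module.End.isSemisimple_id, hn, Commute.one_left _, one_mul _⟩]
  rfl

/-- The unipotent part of a point is trivial on group-like functions. -/
theorem unipotent_part_groupLike (g : A →ₐ[k] k) {χ : A} (hχ : IsGroupLikeElem k χ) : pt g false χ = 1 := by
  let U : Submodule k A := Submodule.span k {χ}
  have hU : HopfRep.IsSubcomod (k := k) (A := A) U := by
    refine Groth.Agent.ComodLib.isSubcomod_iff_actF.mpr fun φ u hu => ?_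
    obtain ⟨c, rfl⟩ := Submodule.mem_span_singleton.mp hu
    rw [map_smul, Groth.Agent.ComodLib.actF_apply]
    show c • Groth.Agent.ComodLib.slice φ (Coalgebra.comul (R := k) χ) ∈ U
    rw [hχ.comul_eq_tmul_self, Groth.Agent.ComodLib.slice_tmul]
    exact Submodule.smul_mem _ _ (Submodule.smul_mem _ _ (Submodule.mem_span_singleton_self _))
  let x : U := ⟨χ, Submodule.mem_span_singleton_self _⟩
  have hRχ : R g χ = g χ • χ := by
    show Algebra.TensorProduct.rid k k A (Algebra.TensorProduct.map (AlgHom.id k A) g (Coalgebra.comul (R := k) χ)) = _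
    rw [hχ.comul_eq_tmul_self, Algebra.TensorProduct.map_tmul, Algebra.TensorProduct.rid_tmul]
    rfl
  have hscal : RU g U hU = g χ • (1 : Module.End k U) := by
    refine LinearMap.ext fun u => Subtype.ext ?_
    obtain ⟨c, hc⟩ := Submodule.mem_span_singleton.mp u.2
    show R g u.1 = g χ • u.1
    rw [← hc, map_smul, hRχ, smul_comm]
  have hp : pick false (RU g U hU) = 1 := by
    rw [pick_eq false (isUnit_RU g U hU) (p := (RU g U hU, 1))
      ⟨by rw [hscal]; exact Module.End.IsSemisimple_smul _ Module.End.isSemisimple_id, ⟨1, (pow_one _).trans (sub_self (1 : Module.End k U))⟩, Commute.one_right _, mul_one _⟩]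
    rfl
  show Bialgebra.counitAlgHom k A (part g false (x : A)) = 1
  rw [part_eq g false U hU, hp]
  exact hχ.counit_eq_one

end Groth.Agent.MultByUnip
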