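import Groth.Agent.MultByUnip.Points
import Groth.Agent.MultTypeLib.TorsionPoints
import Groth.Agent.MultTypeLib.Averaging
import Groth.Agent.UnipExt.EtaleKer
import Groth.Agent.GrpSchLib.FieldReduced

/-!
# The reduced identity component over an algebraically closed field
-/

set_option autoImplicit false

universe u

open TensorProduct WithConv

namespace Groth.Agent.MultByUnip

variable {k : Type u} [Field k] [IsAlgClosed k] {A : Type u} [CommRing A] [HopfAlgebra k A]
  [Algebra.FiniteType k A] [_root_.IsReduced A]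

/-- The function `x ↦ (x * g) e`. -/
noncomputable def transFun (e : A) (g : WithConv (A →ₐ[k] k)) : A :=
  (toConv (AlgHom.id k A) * toConv ((Algebra.ofId k A).comp g.ofConv)).ofConv e

theorem apply_transFun (e : A) (g x : WithConv (A →ₐ[k] k)) : x.ofConv (transFun e g) = (x * g).ofConv e := by
  show (MultTypeLib.convMap (R := k) (C := A) x.ofConv
    (toConv (AlgHom.id k A) * toConv ((Algebra.ofId k A).comp g.ofConv))).ofConv e = _
  rw [map_mul]
  have h1 : MultTypeLib.convMap (R := k) (C := A) x.ofConv (toConv (AlgHom.id k A)) = x := rfl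
  have h2 : MultTypeLib.convMap (R := k) (C := A) x.ofConv (toConv ((Algebra.ofId k A).comp g.ofConv)) = g :=
    WithConv.ext (AlgHom.ext fun a => x.ofConv.commutes (g.ofConv a))
  rw [h1, h2]

theorem isIdempotentElem_transFun {e : A} (he : IsIdempotentElem e) (g : WithConv (A →ₐ[k] k)) :
    IsIdempotentElem (transFun e g) :=
  he.map (toConv (AlgHom.id k A) * toConv ((Algebra.ofId k A).comp g.ofConv)).ofConv

section Comp

variable {e : A} (he : IsIdempotentElem e) (hε : Bialgebra.counitAlgHom k A e = 1)
  (hconn : ∀ f : A ⧸ Ideal.span ({1 - e} : Set A), IsIdempotentElem f → f = 0 ∨ f = 1)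

include he in
omit [Algebra.FiniteType k A] [IsAlgClosed k] in
theorem isReduced_component : _root_.IsReduced (A ⧸ Ideal.span ({1 - e} : Set A)) := by
  refine ⟨fun z hz => ?_⟩
  obtain ⟨a, rfl⟩ := Ideal.Quotient.mk_surjective z
  obtain ⟨n, hn⟩ := hz
  rw [← map_pow, Ideal.Quotient.eq_zero_iff_mem, Ideal.mem_span_singleton'] at hn
  obtain ⟨c, hc⟩ := hn
  have h0 : IsNilpotent (e * a) := ⟨n + 1, by
    rw [mul_pow, he.pow_succ_eq, pow_succ', mul_left_comm, ← hc, ← mul_assoc, ← mul_assoc, mul_comm (a * e), mul_sub,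
      mul_one, mul_assoc, mul_assoc, he.eq, sub_self]⟩
  rw [Ideal.Quotient.eq_zero_iff_mem, Ideal.mem_span_singleton']
  exact ⟨a, by rw [mul_sub, mul_one, mul_comm a e, h0.eq_zero, sub_zero]⟩

/-- The points of the component. -/
theorem mem_span_iff (he : IsIdempotentElem e) (x : A →ₐ[k] k) :
    x e = 1 ↔ ∀ a ∈ Ideal.span ({1 - e} : Set A), x a = 0 := by
  constructor
  · intro h a ha
    obtain ⟨c, rfl⟩ := Ideal.mem_span_singleton'.mp ha
    rw [map_mul, map_sub, map_one, h, sub_self, mul_zero]
  · intro h
    have := h _ (Ideal.mem_span_singleton_self _)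
    rw [map_sub, map_one, sub_eq_zero] at this
    exact this.symm

include he hε hconn in
theorem mul_mem_component {x y : WithConv (A →ₐ[k] k)} (hx : x.ofConv e = 1) (hy : y.ofConv e = 1) :
    (x * y).ofConv e = 1 := by
  let xb : (A ⧸ Ideal.span ({1 - e} : Set A)) →ₐ[k] k := Ideal.Quotient.liftₐ _ x.ofConv fun a ha => (mem_span_iff he _).mp hx a ha
  let εb : (A ⧸ Ideal.span ({1 - e} : Set A)) →ₐ[k] k :=
    Ideal.Quotient.liftₐ _ (Bialgebra.counitAlgHom k A) fun a ha => (mem_span_iff he _).mp hε a ha
  rw [← apply_transFun]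
  show xb (Ideal.Quotient.mk _ (transFun e y)) = 1
  have h1 : εb (Ideal.Quotient.mk _ (transFun e y)) = 1 := by
    show (1 : WithConv (A →ₐ[k] k)).ofConv (transFun e y) = 1
    rw [apply_transFun, one_mul]
    exact hy
  rcases hconn _ ((isIdempotentElem_transFun he y).map (Ideal.Quotient.mk (Ideal.span ({1 - e} : Set A)))) with h | h
  · rw [h, map_zero] at h1
    exact absurd h1 zero_ne_one
  · rw [h, map_one]

include he hε hconn in
theorem inv_mem_component {x : WithConv (A →ₐ[k] k)} (hx : x.ofConv e = 1) : (x⁻¹).ofConv e = 1 := by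
  let xb : (A ⧸ Ideal.span ({1 - e} : Set A)) →ₐ[k] k := Ideal.Quotient.liftₐ _ x.ofConv fun a ha => (mem_span_iff he _).mp hx a ha
  show xb (Ideal.Quotient.mk _ (HopfAlgebra.antipodeAlgHom k A e)) = 1
  have hid : IsIdempotentElem (Ideal.Quotient.mk (Ideal.span ({1 - e} : Set A)) (HopfAlgebra.antipodeAlgHom k A e)) :=
    (he.map (HopfAlgebra.antipodeAlgHom k A)).map (Ideal.Quotient.mk _)
  rcases hconn _ hid with h | h
  · let εb : (A ⧸ Ideal.span ({1 - e} : Set A)) →ₐ[k] k :=
      Ideal.Quotient.liftₐ _ (Bialgebra.counitAlgHom k A) fun a ha => (mem_span_iff he _).mp hε a ha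
    have h1 : εb (Ideal.Quotient.mk _ (HopfAlgebra.antipodeAlgHom k A e)) = 1 := by
      show ((1 : WithConv (A →ₐ[k] k))⁻¹).ofConv e = 1
      rw [inv_one]
      exact hε
    rw [h, map_zero] at h1
    exact absurd h1 zero_ne_one
  · rw [h, map_one]

include he hε hconn in
theorem isHopfIdeal_component : (Ideal.span ({1 - e} : Set A)).IsHopfIdeal k := by
  classical
  let I := Ideal.span ({1 - e} : Set A)
  haveI : _root_.IsReduced (A ⧸ I) := isReduced_component he
  haveI : _root_.IsReduced ((A ⧸ I) ⊗[k] (A ⧸ I)) := GrpSchLib.isReduced_tensor_of_perfectField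
  haveI : Algebra.FiniteType k (A ⧸ I) := inferInstance
  haveI : Algebra.FiniteType k ((A ⧸ I) ⊗[k] (A ⧸ I)) := .trans (S := A ⧸ I) ‹_› inferInstance
  have hzero : ∀ a : A, (∀ x : WithConv (A →ₐ[k] k), x.ofConv e = 1 → x.ofConv a = 0) → a ∈ I := fun a h => by
    refine Ideal.Quotient.eq_zero_iff_mem.mp (eq_zero_of_forall_point (k := k) fun z => ?_)
    exact h (toConv (z.comp (Ideal.Quotient.mkₐ k I))) ((mem_span_iff he _).mpr fun b hb => by
      show z (Ideal.Quotient.mk I b) = 0
      rw [Ideal.Quotient.eq_zero_iff_mem.mpr hb, map_zero])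
  exact
  { counit_eq_zero := fun x hx => (mem_span_iff he (Bialgebra.counitAlgHom k A)).mp hε x hx
    antipode_mem := fun a ha => hzero _ fun x hx =>
      (mem_span_iff he _).mp (inv_mem_component he hε hconn hx) a ha
    map_mkQ_comul_eq_zero := fun a ha => by
      let ee := Submodule.Quotient.restrictScalarsEquiv k I
      apply (TensorProduct.congr ee ee).injective
      rw [map_zero]
      have h0 : Algebra.TensorProduct.map (Ideal.Quotient.mkₐ k I) (Ideal.Quotient.mkₐ k I)
          (Coalgebra.comul (R := k) a) = 0 := by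
        refine eq_zero_of_forall_point (k := k) fun z => ?_
        let x : WithConv (A →ₐ[k] k) := toConv ((z.comp Algebra.TensorProduct.includeLeft).comp (Ideal.Quotient.mkₐ k I))
        let y : WithConv (A →ₐ[k] k) := toConv ((z.comp Algebra.TensorProduct.includeRight).comp (Ideal.Quotient.mkₐ k I))
        have hx : x.ofConv e = 1 := (mem_span_iff he _).mpr fun b hb => by
          show z (Ideal.Quotient.mk I b ⊗ₜ 1) = 0
          rw [Ideal.Quotient.eq_zero_iff_mem.mpr hb, TensorProduct.zero_tmul, map_zero]
        have hy : y.ofConv e = 1 := (mem_span_iff he _).mpr fun b hb => by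
          show z (1 ⊗ₜ Ideal.Quotient.mk I b) = 0
          rw [Ideal.Quotient.eq_zero_iff_mem.mpr hb, TensorProduct.tmul_zero, map_zero]
        refine Eq.trans ?_ ((mem_span_iff he _).mp (mul_mem_component he hε hconn hx hy) a ha)
        rw [AlgHom.convMul_apply]
        induction Coalgebra.comul (R := k) a using TensorProduct.induction_on with
        | zero => simp
        | tmul p q =>
          simp only [Algebra.TensorProduct.map_tmul, Algebra.TensorProduct.lift_tmul, x, y, AlgHom.comp_apply,
            Algebra.TensorProduct.includeLeft_apply, Algebra.TensorProduct.includeRight_apply, ← map_mul,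
            Algebra.TensorProduct.tmul_mul_tmul, mul_one, one_mul]
        | add p q hp hq => simp only [map_add, hp, hq]
      rw [← h0]
      generalize Coalgebra.comul (R := k) a = t
      induction t using TensorProduct.induction_on with
      | zero => simp
      | tmul a b => rfl
      | add s t hs ht => simp only [map_add, hs, ht] }

end Comp

end Groth.Agent.MultByUnip
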