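import Groth.Agent.MultByUnip.Component
import Groth.Agent.UnipExt.Trigonal
import Groth.Agent.UnipExt.Conj
import Groth.Agent.UnipMu.Closure
import Groth.Agent.UnipComp.Points
import Groth.Agent.GrpSchLib.HopfQuotEtale
import Groth.Agent.S3266
import Groth.Agent.S4104
import Groth.Agent.S11926

/-!
# Extensions of connected unipotent groups by diagonalisable ones split, over an algebraically closed field
-/

set_option autoImplicit false

universe u

open TensorProduct WithConv

namespace Groth.Agent.MultByUnip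

variable {k : Type u} [Field k] [IsAlgClosed k]

set_option maxHeartbeats 1000000 in
/-- The splitting. -/
theorem exists_retraction {A C H : Type u} [CommRing A] [HopfAlgebra k A] [Algebra.FiniteType k A]
    [CommRing C] [HopfAlgebra k C] [Algebra.FiniteType k C] [IsDomain C] (hU : HopfRep.IsUnipotent k C)
    [CommRing H] [HopfAlgebra k H] (hH : Submodule.span k {g : H | IsGroupLikeElem k g} = ⊤)
    (ψ : C →ₐc[k] A) (hψ : Function.Injective ψ) (q : A →ₐc[k] H) (hq : Function.Surjective q)
    (hker : ∀ a, q a = 0 → a ∈ Ideal.map (ψ : C →+* A) (RingHom.ker (Bialgebra.counitAlgHom k C))) :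
    ∃ r : A →ₐc[k] C, ∀ c, r (ψ c) = c := by
  classical
  -- points of `A` over the trivial point of `C` factor through `H`
  have hJpt : ∀ {R : Type u} [CommRing R] [Algebra k R] (z : A →ₐ[k] R),
      (∀ c, z (ψ c) = algebraMap k R (Coalgebra.counit (R := k) c)) →
        ∃ y : H →ₐ[k] R, ∀ a, y (q a) = z a := by
    intro R _ _ z hz
    have hle : RingHom.ker (q : A →ₐ[k] H) ≤ RingHom.ker z := fun a ha => by
      refine (Ideal.map_le_iff_le_comap.mpr fun c hc => ?_) (hker a ha)
      show z (ψ c) = 0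
      rw [hz, show Coalgebra.counit (R := k) c = 0 from hc, map_zero]
    exact ⟨AlgHom.liftOfSurjective (q : A →ₐ[k] H) hq z hle,
      fun a => AlgHom.liftOfSurjective_apply (q : A →ₐ[k] H) hq z hle a⟩
  -- the reduced identity component
  haveI := Groth.Agent.S11926.result k A
  let A₁ := A ⧸ nilradical A
  haveI : _root_.IsReduced A₁ := (Ideal.isRadical_iff_quotient_reduced _).mp (Ideal.radical_isRadical _)
  haveI : Algebra.FiniteType k A₁ := inferInstance
  haveI : IsNoetherianRing A₁ := Algebra.FiniteType.isNoetherianRing k A₁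
  let π₁ : A →ₐc[k] A₁ := Bialgebra.Quotient.mkBialgHom _
  obtain ⟨e, he, hεe, hconn⟩ := UnipExt.exists_connected_idem (Bialgebra.counitAlgHom k A₁)
  haveI hI := isHopfIdeal_component he hεe hconn
  let A₀ := A₁ ⧸ Ideal.span ({1 - e} : Set A₁)
  haveI : _root_.IsReduced A₀ := isReduced_component he
  haveI : Algebra.FiniteType k A₀ := inferInstance
  let π₀ : A →ₐc[k] A₀ := (Bialgebra.Quotient.mkBialgHom _ : A₁ →ₐc[k] A₀).comp π₁
  have hπ₀ : Function.Surjective π₀ := fun y => by
    obtain ⟨y, rfl⟩ := Ideal.Quotient.mk_surjective y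
    obtain ⟨a, rfl⟩ := Ideal.Quotient.mk_surjective y
    exact ⟨a, rfl⟩
  -- it is trigonalisable
  haveI : Group.IsSolvable (WithConv (C →ₐ[k] k)) :=
    haveI := Groth.Agent.UnipComp.Points.isNilpotent_points hU
    inferInstance
  haveI : Group.IsSolvable (WithConv (H →ₐ[k] k)) := Group.isSolvable_of_comm fun x y => by
    refine WithConv.ext (AlgHom.toLinearMap_injective (LinearMap.ext_on hH fun g hg => ?_))
    show (x * y).ofConv g = (y * x).ofConv g
    rw [AlgHom.convMul_apply, AlgHom.convMul_apply, hg.comul_eq_tmul_self]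
    simp [mul_comm]
  haveI : Group.IsSolvable (WithConv (A →ₐ[k] k)) :=
    Group.isSolvable_of_ker_le_range (pre q) (pre ψ) fun x hx => by
      obtain ⟨y, hy⟩ := hJpt x.ofConv fun c => by
        have := congrArg (fun t : WithConv (C →ₐ[k] k) => t.ofConv c) (MonoidHom.mem_ker.mp hx)
        simpa [pre_apply] using this
      exact ⟨toConv y, WithConv.ext (AlgHom.ext hy)⟩
  haveI : Group.IsSolvable (WithConv (A₀ →ₐ[k] k)) :=
    Group.isSolvable_of_isSolvable_injective (pre_injective π₀ hπ₀)
  obtain ⟨D, _, _, ψD, J', hJ'i, -, hD, hJ', hU''⟩ :=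
    UnipExt.trigonal_iff.mp (Groth.Agent.S3266.result k A₀ hconn)
  haveI := hJ'i
  let A'' := A₀ ⧸ J'
  let π'' : A →ₐc[k] A'' := (Bialgebra.Quotient.mkBialgHom J' : A₀ →ₐc[k] A'').comp π₀
  have hπ'' : Function.Surjective π'' := fun y => by
    obtain ⟨y, rfl⟩ := Ideal.Quotient.mk_surjective y
    obtain ⟨a, rfl⟩ := hπ₀ y
    exact ⟨a, rfl⟩
  let φ : C →ₐc[k] A'' := π''.comp ψ
  -- a point of the component maps into the image of the unipotent quotient
  have hQ : ∀ g₁ : WithConv (A₁ →ₐ[k] k), g₁.ofConv e = 1 → ∃ u, pre φ u = pre ψ (pre π₁ g₁) := by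
    intro g₁ hg
    let g₀ : A₀ →ₐ[k] k := Ideal.Quotient.liftₐ _ g₁.ofConv fun a ha => (mem_span_iff he _).mp hg a ha
    let ψ₀ : C →ₐc[k] A₀ := π₀.comp ψ
    have h1 : pre ψ (pre π₁ g₁) = pre ψ₀ (toConv g₀) := rfl
    rw [h1, ← pre_mul_parts (toConv g₀), map_mul, pre_semisimple_part ψ₀ hU, one_mul]
    let u : A'' →ₐ[k] k := Ideal.Quotient.liftₐ J' (JordanPts.pt g₀ false) fun a ha => by
      have hle : J' ≤ RingHom.ker (JordanPts.pt g₀ false) := by
        rw [hJ', Ideal.map_le_iff_le_comap]
        intro d hd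
        have key : ∀ d : D, JordanPts.pt g₀ false (ψD d) = Coalgebra.counit (R := k) d := by
          intro d
          refine LinearMap.congr_fun (f := (JordanPts.pt g₀ false).toLinearMap ∘ₗ (ψD : D →ₐ[k] A₀).toLinearMap)
            (LinearMap.ext_on (show Submodule.span k {x : D | IsGroupLikeElem k x} = ⊤ from hD) fun χ hχ => ?_) d
          show JordanPts.pt g₀ false (ψD χ) = Coalgebra.counit (R := k) χ
          rw [unipotent_part_groupLike g₀ (hχ.map ψD), hχ.counit_eq_one]
        show JordanPts.pt g₀ false (ψD d) = 0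
        rw [key]
        exact hd
      exact hle ha
    exact ⟨toConv u, rfl⟩
  -- injectivity
  let idem : WithConv (A₁ →ₐ[k] k) → {z : A₁ | IsIdempotentElem z} :=
    fun g => ⟨transFun e g, isIdempotentElem_transFun he g⟩
  haveI : Finite {z : A₁ | IsIdempotentElem z} := (MultTypeLib.finite_idempotents A₁).to_subtype
  haveI : Fintype (Set.range idem) := Fintype.ofFinite _
  choose rep hrep using fun z : Set.range idem => z.2
  let cz : Set.range idem → WithConv (C →ₐ[k] k) := fun z => pre ψ (pre π₁ (rep z))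
  have hcov : ∀ x : WithConv (C →ₐ[k] k), ∃ z u, x = cz z * pre φ u := by
    intro x
    obtain ⟨g, rfl⟩ := pre_surjective ψ hψ x
    let g₁ : A₁ →ₐ[k] k := Ideal.Quotient.liftₐ (nilradical A) g.ofConv fun a ha =>
      (IsNilpotent.map (mem_nilradical.mp ha) g.ofConv).eq_zero
    let z : Set.range idem := ⟨idem (toConv g₁), toConv g₁, rfl⟩
    have hz : transFun e (rep z) = transFun e (toConv g₁) := congrArg Subtype.val (hrep z)
    have hmem : ((rep z)⁻¹ * toConv g₁).ofConv e = 1 := by
      rw [← apply_transFun, ← hz, apply_transFun, inv_mul_cancel]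
      exact hεe
    obtain ⟨u, hu⟩ := hQ _ hmem
    refine ⟨z, u, ?_⟩
    rw [hu, ← map_mul, ← map_mul, mul_inv_cancel_left]
    rfl
  have hinj : Function.Injective φ := (injective_iff_map_eq_zero φ).mpr fun c hc => by
    let b : Set.range idem → C := fun z =>
      (toConv ((Algebra.ofId k C).comp ((cz z)⁻¹).ofConv) * toConv (AlgHom.id k C)).ofConv c
    have hb : ∀ z (y : WithConv (C →ₐ[k] k)), y.ofConv (b z) = ((cz z)⁻¹ * y).ofConv c := fun z y => by
      show (MultTypeLib.convMap (R := k) (C := C) y.ofConv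
        (toConv ((Algebra.ofId k C).comp ((cz z)⁻¹).ofConv) * toConv (AlgHom.id k C))).ofConv c = _
      rw [map_mul]
      have h1 : MultTypeLib.convMap (R := k) (C := C) y.ofConv (toConv (AlgHom.id k C)) = y := rfl
      have h2 : MultTypeLib.convMap (R := k) (C := C) y.ofConv (toConv ((Algebra.ofId k C).comp ((cz z)⁻¹).ofConv)) =
          (cz z)⁻¹ := WithConv.ext (AlgHom.ext fun a => y.ofConv.commutes (((cz z)⁻¹).ofConv a))
      rw [h1, h2]
    have hprod : ∏ z, b z = 0 := eq_zero_of_forall_point (k := k) fun y => by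
      obtain ⟨z, u, hy⟩ := hcov (toConv y)
      rw [map_prod]
      refine Finset.prod_eq_zero (Finset.mem_univ z) ?_
      show (toConv y).ofConv (b z) = 0
      rw [hb, hy, inv_mul_cancel_left, pre_apply, hc, map_zero]
    obtain ⟨z, -, hz⟩ := Finset.prod_eq_zero_iff.mp hprod
    refine eq_zero_of_forall_point (k := k) fun x => ?_
    have := hb z (cz z * toConv x)
    rw [hz, map_zero, inv_mul_cancel_left] at this
    exact this.symm
  -- surjectivity
  have hsurj : Function.Surjective φ := by
    refine Groth.Agent.S4104.result k C A'' φ fun R _ f g hfg => ?_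
    letI : Algebra k R := (f.comp (algebraMap k A'')).toAlgebra
    let f' : A'' →ₐ[k] R := { f with commutes' := fun c => rfl }
    let g' : A'' →ₐ[k] R :=
      { g with
        commutes' := fun c => by
          show g (algebraMap k A'' c) = f (algebraMap k A'' c)
          rw [← (φ : C →ₐ[k] A'').commutes c]
          exact (RingHom.congr_fun hfg _).symm }
    let z : WithConv (A'' →ₐ[k] R) := toConv f' * toConv (g'.comp (HopfAlgebra.antipodeAlgHom k A''))
    have hzφ : ∀ c, z.ofConv (φ c) = algebraMap k R (Coalgebra.counit (R := k) c) := by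
      intro c
      have h0 : toConv (z.ofConv.comp (φ : C →ₐ[k] A'')) = (1 : WithConv (C →ₐ[k] R)) := by
        show toConv ((toConv f' * toConv (g'.comp (HopfAlgebra.antipodeAlgHom k A''))).ofConv.comp (φ : C →ₐ[k] A'')) = _
        rw [AlgHom.convMul_comp_bialgHom_distrib]
        simp only [WithConv.ofConv_toConv, AlgHom.comp_assoc]
        rw [show (HopfAlgebra.antipodeAlgHom k A'').comp (φ : C →ₐ[k] A'') =
            (φ : C →ₐ[k] A'').comp (HopfAlgebra.antipodeAlgHom k C) from AlgHom.ext fun c =>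
              GrpSchLib.HopfGalois.antipode_bialgHom φ c, ← AlgHom.comp_assoc,
          show g'.comp (φ : C →ₐ[k] A'') = f'.comp (φ : C →ₐ[k] A'') from
            AlgHom.ext fun c => (RingHom.congr_fun hfg c).symm]
        exact GrpSchLib.HopfQuot.self_convMul_inv _
      exact DFunLike.congr_fun (congrArg WithConv.ofConv h0) c
    -- `z` is trivial
    let L : Ideal A'' := Ideal.map (φ : C →+* A'') (RingHom.ker (Bialgebra.counitAlgHom k C))
    haveI : L.IsHopfIdeal k := MultTypeLib.isHopfIdeal_map_ker φ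
    let ρ : A →ₐc[k] A'' ⧸ L := (Bialgebra.Quotient.mkBialgHom L : A'' →ₐc[k] A'' ⧸ L).comp π''
    haveI : Algebra.FiniteType k A'' := inferInstance
    haveI : Algebra.FiniteType k (A'' ⧸ L) := inferInstance
    have hUL : HopfRep.IsUnipotent k (A'' ⧸ L) :=
      UnipCrit.isUnipotent_of_surjective (Bialgebra.Quotient.mkBialgHom L : A'' →ₐc[k] A'' ⧸ L)
        Ideal.Quotient.mk_surjective hU''
    have hρker : ∀ a, q a = 0 → ρ a = 0 := fun a ha => by
      refine (Ideal.map_le_iff_le_comap.mpr fun c hc => ?_ : _ ≤ RingHom.ker (ρ : A →+* A'' ⧸ L)) (hker a ha)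
      exact Ideal.Quotient.eq_zero_iff_mem.mpr (Ideal.mem_map_of_mem (φ : C →+* A'') hc)
    obtain ⟨ρH, hρH⟩ := UnipExt.exists_factor q hq ρ hρker
    have hρHc : ∀ y : H, ρH y = algebraMap k (A'' ⧸ L) (Coalgebra.counit (R := k) y) := fun y => by
      refine LinearMap.congr_fun (f := (ρH : H →ₐ[k] A'' ⧸ L).toLinearMap)
        (g := (Algebra.linearMap k (A'' ⧸ L)) ∘ₗ Coalgebra.counit) (LinearMap.ext_on hH fun g hg => ?_) y
      show ρH g = algebraMap k _ (Coalgebra.counit (R := k) g)
      rw [hg.counit_eq_one, map_one, UnipMu.groupLike_eq_one hUL (hg.map ρH)]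
    have hL : ∀ y : A'', y - algebraMap k A'' (Coalgebra.counit (R := k) y) ∈ L := by
      intro y
      obtain ⟨a, rfl⟩ := hπ'' y
      refine Ideal.Quotient.eq.mp ?_
      show ρ a = _
      rw [← hρH, hρHc, CoalgHomClass.counit_comp_apply q, CoalgHomClass.counit_comp_apply π'']
      rfl
    have hz1 : z = 1 := WithConv.ext (AlgHom.ext fun y => by
      have h := (Ideal.map_le_iff_le_comap.mpr fun c hc => ?_ : L ≤ RingHom.ker z.ofConv.toRingHom) (hL y)
      · rw [RingHom.mem_ker] at h
        change z.ofConv (y - algebraMap k A'' (Coalgebra.counit (R := k) y)) = 0 at h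
        rw [map_sub, AlgHom.commutes, sub_eq_zero] at h
        exact h
      · show z.ofConv (φ c) = 0
        rw [hzφ, show Coalgebra.counit (R := k) c = 0 from hc, map_zero])
    have h2 : toConv f' = z * toConv g' := by
      show _ = toConv f' * toConv (g'.comp (HopfAlgebra.antipodeAlgHom k A'')) * toConv g'
      rw [mul_assoc (toConv f'), GrpSchLib.HopfQuot.inv_convMul_self, mul_one]
    rw [hz1, one_mul] at h2
    exact RingHom.ext fun a => DFunLike.congr_fun (congrArg WithConv.ofConv h2) a
  let eφ := BialgEquiv.ofBijective φ ⟨hinj, hsurj⟩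
  exact ⟨eφ.symm.toBialgHom.comp π'', fun c => eφ.symm_apply_apply c⟩

end Groth.Agent.MultByUnip
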